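import Cfsg.Agent.H168.Uni.ZeroStep

/-!
# Theorem (U), part (D): the cases `m ≤ 2`, for `p = 3, 5`
-/

set_option autoImplicit false
set_option linter.unusedSimpArgs false
set_option linter.unusedSectionVars false

namespace Cfsg.Agent.H168.Uni

open QuadraticMap Cfsg.Agent.LieClassical.OrthCore Cfsg.Agent.LieClassical.OmegaReindex
  Cfsg.Agent.LieClassical.OrthFinite Cfsg.Agent.H45.Uni

/-! ### computing with lists of monomials -/

section lists

variable {m : ℕ} {k : Type*} [Field k]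

/-- the function given by a list of monomials -/
def ev (k : Type*) [Field k] (L : List ((Fin m → ℤ) × ℤ)) : (Fin m → kˣ) → k :=
  (L.map fun x => (x.2 : k) • chi x.1).sum

/-- its zero coefficient -/
def zc (L : List ((Fin m → ℤ) × ℤ)) : ℤ := (L.map fun x => if x.1 = 0 then x.2 else 0).sum

/-- product of lists -/
def mulL (L L' : List ((Fin m → ℤ) × ℤ)) : List ((Fin m → ℤ) × ℤ) :=
  L.flatMap fun x => L'.map fun y => (x.1 + y.1, x.2 * y.2)

/-- power of a list -/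
def powL (L : List ((Fin m → ℤ) × ℤ)) : ℕ → List ((Fin m → ℤ) × ℤ)
  | 0 => [(0, 1)]
  | n + 1 => mulL L (powL L n)

theorem ev_nil : ev k ([] : List ((Fin m → ℤ) × ℤ)) = 0 := rfl

theorem ev_cons (x : (Fin m → ℤ) × ℤ) (L : List ((Fin m → ℤ) × ℤ)) :
    ev k (x :: L) = (x.2 : k) • chi x.1 + ev k L := by
  simp [ev]

theorem ev_append (L L' : List ((Fin m → ℤ) × ℤ)) : ev k (L ++ L') = ev k L + ev k L' := by
  simp [ev]

theorem ev_mulL (L L' : List ((Fin m → ℤ) × ℤ)) : ev k (mulL L L') = ev k L * ev k L' := by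
  induction L with
  | nil => simp [mulL, ev_nil]
  | cons x L ih =>
    have h1 : mulL (x :: L) L' = (L'.map fun y => (x.1 + y.1, x.2 * y.2)) ++ mulL L L' := by
      simp [mulL]
    rw [h1, ev_append, ih, ev_cons, add_mul]
    congr 1
    clear ih h1
    induction L' with
    | nil => simp [ev_nil]
    | cons y L' ih' =>
      rw [List.map_cons, ev_cons, ev_cons, ih', mul_add, ← chi_mul]
      congr 1
      push_cast
      rw [smul_mul_smul_comm]

theorem ev_powL (L : List ((Fin m → ℤ) × ℤ)) (n : ℕ) : ev k (powL L n) = ev k L ^ n := by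
  induction n with
  | zero => simp [powL, ev_cons, ev_nil, chi_zero]
  | succ n ih => rw [powL, ev_mulL, ih, pow_succ']

theorem ev_hasZ (L : List ((Fin m → ℤ) × ℤ)) : HasZ (ev k L) (zc L : k) := by
  induction L with
  | nil =>
    have : ev k ([] : List ((Fin m → ℤ) × ℤ)) - (fun _ => ((zc ([] : List ((Fin m → ℤ) × ℤ)) : ℤ) : k)) = 0 := by
      funext t
      simp [ev_nil, zc]
    unfold HasZ
    rw [this]
    exact Submodule.zero_mem _
  | cons x L ih =>
    unfold HasZ at *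
    have h1 : zc (x :: L) = (if x.1 = 0 then x.2 else 0) + zc L := by simp [zc]
    have h2 : ev k (x :: L) - (fun _ => ((zc (x :: L) : ℤ) : k)) = ((x.2 : k) • chi x.1 - fun _ =>
        (((if x.1 = 0 then x.2 else 0 : ℤ)) : k)) + (ev k L - fun _ => ((zc L : ℤ) : k)) := by
      rw [ev_cons, h1]
      funext t
      simp only [Pi.add_apply, Pi.sub_apply, Int.cast_add]
      ring
    rw [h2]
    refine Submodule.add_mem _ ?_ ih
    by_cases h : x.1 = 0
    · rw [if_pos h, h, chi_zero]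
      have : (x.2 : k) • (1 : (Fin m → kˣ) → k) - (fun _ => (x.2 : k)) = 0 := by
        funext t; simp
      rw [this]
      exact Submodule.zero_mem _
    · rw [if_neg h]
      have : (x.2 : k) • (chi x.1 : (Fin m → kˣ) → k) - (fun _ => ((0 : ℤ) : k)) = (x.2 : k) • chi x.1 := by
        funext t; simp
      rw [this]
      exact Submodule.smul_mem _ _ (chi_mem h)

end lists

section bases

variable {k : Type*} [Field k]

/-! ### `m = 0` -/

theorem Zm_zero (n : Fin 0 → ℕ) : Zm 0 k n := by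
  have hB : Bs (vz : Ix 0 → k) (fun i => Fin.elim0 i) (fun i => Fin.elim0 i) := by
    constructor
    · exact Q_vz
    all_goals exact fun i => Fin.elim0 i
  refine ⟨_, _, _, _, _, _, 1, hB, hB, one_ne_zero, ?_⟩
  unfold HasZ
  have : (fun t : Fin 0 → kˣ => ∏ j : Fin 0, mn t (fun i => Fin.elim0 i) (fun i => Fin.elim0 i) j ^ n j) -
      (fun _ => (1 : k)) = 0 := by
    funext t
    simp
  rw [this]
  exact Submodule.zero_mem _

/-! ### `m = 1` -/

def L1 : List ((Fin 1 → ℤ) × ℤ) := [(0, 2), (![-1], -1), (![1], -1)]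

def w1 : Ix 1 → k := mkv 1 ![1] ![-1]

theorem Bs_one : Bs (mkv 1 ![0] ![-2] : Ix 1 → k) (fun _ => w1) (fun _ => mkv 0 ![0] ![1]) := by
  constructor
  · rw [Q_apply]; simp [mkv]
  · intro i
    rw [polar_quadOdd]; simp [mkv, w1]
  · intro i
    rw [polar_quadOdd]; simp [mkv, w1]
  · intro i
    rw [Q_apply]; simp [mkv, w1]
  · intro i
    rw [Q_apply]; simp [mkv, w1]
  · intro i j
    rw [polar_quadOdd]; simp [mkv, w1]; ring
  · intro i j
    rw [polar_quadOdd]; simp [mkv, w1]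
  · intro i j
    rw [polar_quadOdd, if_pos (Subsingleton.elim _ _)]; simp [mkv, w1]

theorem mn_base1 (t : Fin 1 → kˣ) (j : Fin 1) : mn t (fun _ => w1) (fun _ => w1) j = ev k L1 t := by
  have hj : j = 0 := Subsingleton.elim _ _
  subst hj
  unfold mn
  refine (Matrix.det_fin_one _).trans ?_
  change polar (quadOdd 1 k) w1 (tor t w1) = _
  rw [polar_quadOdd]
  simp only [tor_z, tor_e, tor_f, w1, mkv_z, mkv_e, mkv_f, L1, ev_cons, ev_nil, chi, Pi.add_apply, Pi.smul_apply, Pi.zero_apply,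
    Fin.prod_univ_one, Fin.sum_univ_one, smul_eq_mul]
  simp
  try ring

theorem Zm_one_of (n : Fin 1 → ℕ) (h : ((zc (powL L1 (n 0)) : ℤ) : k) ≠ 0) : Zm 1 k n := by
  refine ⟨_, _, _, _, _, _, _, Bs_one, Bs_one, h, ?_⟩
  have : (fun t : Fin 1 → kˣ => ∏ j, mn t (fun _ => w1) (fun _ => w1) j ^ n j) = ev k (powL L1 (n 0)) := by
    funext t
    rw [Fin.prod_univ_one, mn_base1, ev_powL]
    rfl
  rw [this]
  exact ev_hasZ _

/-! ### `m = 2` -/

def L2a : List ((Fin 2 → ℤ) × ℤ) := [(![0, 0], -2), (![-1, 0], 1), (![0, -1], -1)]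
def L2b : List ((Fin 2 → ℤ) × ℤ) :=
  [(![1, 0], -2), (![0, 1], 2), (![0, 0], 2), (![-1, 1], -1), (![1, -1], -1), (![1, 1], -1)]

def fU (k : Type*) [Field k] : Fin 2 → Ix 2 → k := ![mkv 1 ![0, 1] ![1, -1], mkv 0 ![1, 1] ![0, 0]]
def fU' (k : Type*) [Field k] : Fin 2 → Ix 2 → k := ![mkv 0 ![0, -1] ![0, 0], mkv 0 ![0, 0] ![1, 0]]
def fV (k : Type*) [Field k] : Fin 2 → Ix 2 → k := ![mkv (-1) ![1, 1] ![-1, 0], mkv 0 ![0, 0] ![1, -1]]
def fV' (k : Type*) [Field k] : Fin 2 → Ix 2 → k := ![mkv 0 ![0, 0] ![1, 0], mkv 0 ![0, -1] ![0, 0]]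

theorem Bs_twoU : Bs (mkv (-1) ![0, -2] ![0, 0] : Ix 2 → k) (fU k) (fU' k) := by
  constructor
  · rw [Q_apply]; simp [mkv]
  · intro i
    rw [polar_quadOdd]; fin_cases i <;> simp [mkv, fU]
  · intro i
    rw [polar_quadOdd]; fin_cases i <;> simp [mkv, fU']
  · intro i
    rw [Q_apply]; fin_cases i <;> simp [mkv, fU]
  · intro i
    rw [Q_apply]; fin_cases i <;> simp [mkv, fU']
  · intro i j
    rw [polar_quadOdd]; fin_cases i <;> fin_cases j <;> simp [mkv, fU] <;> ring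
  · intro i j
    rw [polar_quadOdd]; fin_cases i <;> fin_cases j <;> simp [mkv, fU']
  · intro i j
    rw [polar_quadOdd]; fin_cases i <;> fin_cases j <;> simp [mkv, fU, fU']

theorem Bs_twoV : Bs (mkv (-1) ![0, 0] ![-2, 0] : Ix 2 → k) (fV k) (fV' k) := by
  constructor
  · rw [Q_apply]; simp [mkv]
  · intro i
    rw [polar_quadOdd]; fin_cases i <;> simp [mkv, fV]
  · intro i
    rw [polar_quadOdd]; fin_cases i <;> simp [mkv, fV']
  · intro i
    rw [Q_apply]; fin_cases i <;> simp [mkv, fV]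
  · intro i
    rw [Q_apply]; fin_cases i <;> simp [mkv, fV']
  · intro i j
    rw [polar_quadOdd]; fin_cases i <;> fin_cases j <;> simp [mkv, fV] <;> ring
  · intro i j
    rw [polar_quadOdd]; fin_cases i <;> fin_cases j <;> simp [mkv, fV']
  · intro i j
    rw [polar_quadOdd]; fin_cases i <;> fin_cases j <;> simp [mkv, fV, fV']

theorem mn_base2a (t : Fin 2 → kˣ) : mn t (fV k) (fU k) 0 = ev k L2a t := by
  unfold mn
  refine (Matrix.det_fin_one _).trans ?_
  change polar (quadOdd 2 k) (mkv (-1) ![1, 1] ![-1, 0]) (tor t (mkv 1 ![0, 1] ![1, -1])) = _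
  rw [polar_quadOdd]
  simp only [tor_z, tor_e, tor_f, mkv_z, mkv_e, mkv_f, L2a, ev_cons, ev_nil, chi, Pi.add_apply, Pi.smul_apply, Pi.zero_apply,
    Fin.prod_univ_two, Fin.sum_univ_two, smul_eq_mul]
  simp
  try ring

theorem mn_base2b (t : Fin 2 → kˣ) : mn t (fV k) (fU k) 1 = ev k L2b t := by
  unfold mn
  refine (Matrix.det_fin_two _).trans ?_
  change polar (quadOdd 2 k) (mkv (-1) ![1, 1] ![-1, 0]) (tor t (mkv 1 ![0, 1] ![1, -1])) *
    polar (quadOdd 2 k) (mkv 0 ![0, 0] ![1, -1]) (tor t (mkv 0 ![1, 1] ![0, 0])) -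
    polar (quadOdd 2 k) (mkv (-1) ![1, 1] ![-1, 0]) (tor t (mkv 0 ![1, 1] ![0, 0])) *
    polar (quadOdd 2 k) (mkv 0 ![0, 0] ![1, -1]) (tor t (mkv 1 ![0, 1] ![1, -1])) = _
  rw [polar_quadOdd, polar_quadOdd, polar_quadOdd, polar_quadOdd]
  simp only [tor_z, tor_e, tor_f, mkv_z, mkv_e, mkv_f, L2b, ev_cons, ev_nil, chi, Pi.add_apply, Pi.smul_apply, Pi.zero_apply,
    Fin.prod_univ_two, Fin.sum_univ_two, smul_eq_mul]
  have h0 := (t 0).ne_zero
  have h1 := (t 1).ne_zero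
  simp
  field_simp
  try ring

theorem Zm_two_of (n : Fin 2 → ℕ) (h : ((zc (mulL (powL L2a (n 0)) (powL L2b (n 1))) : ℤ) : k) ≠ 0) :
    Zm 2 k n := by
  refine ⟨_, _, _, _, _, _, _, Bs_twoU, Bs_twoV, h, ?_⟩
  have : (fun t : Fin 2 → kˣ => ∏ j, mn t (fV k) (fU k) j ^ n j) =
      ev k (mulL (powL L2a (n 0)) (powL L2b (n 1))) := by
    funext t
    rw [Fin.prod_univ_two, mn_base2a, mn_base2b, ev_mulL, ev_powL, ev_powL]
    rfl
  rw [this]
  exact ev_hasZ _

theorem cast_ne {p : ℕ} [CharP k p] {z : ℤ} (h : ¬ (p : ℤ) ∣ z) : ((z : ℤ) : k) ≠ 0 := fun h0 =>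
  h ((CharP.intCast_eq_zero_iff k p z).1 h0)

theorem dec1_3 : ∀ n : Fin 2, ¬ (3 : ℤ) ∣ zc (powL L1 n.1) := by decide +kernel
theorem dec1_5 : ∀ n : Fin 3, ¬ (5 : ℤ) ∣ zc (powL L1 n.1) := by decide +kernel
theorem dec2_3 : ∀ (a : Fin 3) (b : Fin 2), ¬ (3 : ℤ) ∣ zc (mulL (powL L2a a.1) (powL L2b b.1)) := by decide +kernel
theorem dec2_5 : ∀ (a : Fin 5) (b : Fin 3), ¬ (5 : ℤ) ∣ zc (mulL (powL L2a a.1) (powL L2b b.1)) := by decide +kernel

theorem Zm_one {p : ℕ} [CharP k p] (hp : p = 3 ∨ p = 5) (n : Fin 1 → ℕ) (h : ∀ j, aa n j < p) : Zm 1 k n := by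
  have h0 : 2 * n 0 < p := h 0
  apply Zm_one_of
  rcases hp with rfl | rfl
  · exact cast_ne (p := 3) (dec1_3 ⟨n 0, by omega⟩)
  · exact cast_ne (p := 5) (dec1_5 ⟨n 0, by omega⟩)

theorem Zm_two {p : ℕ} [CharP k p] (hp : p = 3 ∨ p = 5) (n : Fin 2 → ℕ) (h : ∀ j, aa n j < p) : Zm 2 k n := by
  have h0 : n 0 < p := h 0
  have h1 : 2 * n 1 < p := h 1
  apply Zm_two_of
  rcases hp with rfl | rfl
  · exact cast_ne (p := 3) (dec2_3 ⟨n 0, by omega⟩ ⟨n 1, by omega⟩)
  · exact cast_ne (p := 5) (dec2_5 ⟨n 0, by omega⟩ ⟨n 1, by omega⟩)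

end bases

/-- the zero weight occurs, in terms of frames -/
theorem Zm_all {k : Type*} [Field k] {p : ℕ} [CharP k p] (hp : p = 3 ∨ p = 5) :
    ∀ (m : ℕ) (n : Fin m → ℕ), (∀ j, aa n j < p) → Zm m k n := by
  have h2 : (2 : k) ≠ 0 := by
    have : (((2 : ℤ)) : k) ≠ 0 := cast_ne (p := p) (by rcases hp with rfl | rfl <;> decide)
    simpa using this
  intro m
  induction m using Nat.strong_induction_on with
  | _ m ih =>
    match m, ih with
    | 0, _ => exact fun n _ => Zm_zero n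
    | 1, _ => exact fun n h => Zm_one hp n h
    | 2, _ => exact fun n h => Zm_two hp n h
    | r + 3, ih =>
      intro n h
      apply Zm_step h2 n
      apply ih (r + 1) (by omega)
      intro j
      have h1 := h j.succ.succ
      unfold aa at *
      simp only [Fin.val_succ] at *
      split_ifs at * <;> omega

end Cfsg.Agent.H168.Uni
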