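import Cfsg.Agent.H168.Uni.SpStep
import Cfsg.Agent.H168.Uni.ZeroBase

/-!
# Theorem (U) for symplectic groups, part (D): the cases `m ≤ 3`, for `p = 3`
-/

set_option autoImplicit false
set_option linter.unusedSimpArgs false
set_option linter.unusedSectionVars false
set_option linter.unnecessarySeqFocus false

namespace Cfsg.Agent.H168.Uni.Sp

open Cfsg.Agent.H168.Uni

section bases

variable {k : Type*} [Field k]

/-- a vector with integer coordinates -/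
def mk {m : ℕ} (e f : Fin m → ℤ) : Vc m k := Sum.elim (fun i => (e i : k)) (fun i => (f i : k))

theorem pw {m : ℕ} (s : ℤ) : (fun t : Fin (m + 1) → kˣ => ((t 0 ^ s : kˣ) : k)) =
    ev k [(Fin.cons s (fun _ => 0), 1)] := by
  funext t
  simp [ev_cons, ev_nil, chi, Fin.prod_univ_succ]

/-! ### frame A -/

def AU (k : Type*) [Field k] : Fin 3 → Vc 3 k := ![mk ![-1, 0, 0] ![1, 0, -1], mk ![0, 1, -1] ![-1, 0, 1], mk ![-1, 0, 0] ![1, 1, 0]]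
def AU' (k : Type*) [Field k] : Fin 3 → Vc 3 k := ![mk ![0, 1, 0] ![-1, 0, 0], mk ![0, 0, 0] ![0, 0, -1], mk ![0, -1, 0] ![0, 0, 0]]
def AV (k : Type*) [Field k] : Fin 3 → Vc 3 k := ![mk ![1, -1, 0] ![-1, 0, -1], mk ![0, 0, 1] ![0, 1, 0], mk ![0, -1, 1] ![0, 1, -1]]
def AV' (k : Type*) [Field k] : Fin 3 → Vc 3 k := ![mk ![0, 0, 0] ![1, 0, 0], mk ![0, -1, -1] ![1, 0, 0], mk ![0, 0, 1] ![-1, 0, 0]]
def AL1 : List ((Fin 3 → ℤ) × ℤ) := [(![-1, 0, 0], 1), (![1, 0, 0], -1)]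
def AL2 : List ((Fin 3 → ℤ) × ℤ) := [(![-1, 1, 0], -1), (![1, 1, 0], 1), (![1, 0, -1], -1), (![0, 0, 0], -1)]
def AL3 : List ((Fin 3 → ℤ) × ℤ) := [(![-1, 0, 0], 2), (![1, 0, 0], -2), (![1, -1, -1], 1)]

theorem ABsU : Bs (AU k) (AU' k) := by
  constructor <;> intro i j <;> fin_cases i <;> fin_cases j <;>
    simp [om, Fin.sum_univ_succ, mk, AU, AU']

theorem ABsV : Bs (AV k) (AV' k) := by
  constructor <;> intro i j <;> fin_cases i <;> fin_cases j <;>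
    simp [om, Fin.sum_univ_succ, mk, AV, AV']

theorem Am1 (t : Fin 3 → kˣ) : mS t (AV k) (AU k) 0 = ev k AL1 t := by
  unfold mS
  refine (Matrix.det_fin_one _).trans ?_
  change Pt t (AV k 0) (AU k 0) = _
  have h0 := (t 0).ne_zero
  have h1 := (t 1).ne_zero
  have h2 := (t 2).ne_zero
  simp [Pt, Fin.sum_univ_succ, Fin.prod_univ_succ, mk, AU, AV, AL1, ev_cons, ev_nil, chi]
  try field_simp
  try ring

theorem Am2 (t : Fin 3 → kˣ) : mS t (AV k) (AU k) 1 = ev k AL2 t := by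
  unfold mS
  refine (Matrix.det_fin_two _).trans ?_
  change Pt t (AV k 0) (AU k 0) * Pt t (AV k 1) (AU k 1) - Pt t (AV k 0) (AU k 1) * Pt t (AV k 1) (AU k 0) = _
  have h0 := (t 0).ne_zero
  have h1 := (t 1).ne_zero
  have h2 := (t 2).ne_zero
  simp [Pt, Fin.sum_univ_succ, Fin.prod_univ_succ, mk, AU, AV, AL2, ev_cons, ev_nil, chi]
  try field_simp
  try ring

theorem Am3 (t : Fin 3 → kˣ) : mS t (AV k) (AU k) 2 = ev k AL3 t := by
  unfold mS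
  refine (Matrix.det_fin_three _).trans ?_
  change Pt t (AV k 0) (AU k 0) * Pt t (AV k 1) (AU k 1) * Pt t (AV k 2) (AU k 2) - Pt t (AV k 0) (AU k 0) * Pt t (AV k 1) (AU k 2) * Pt t (AV k 2) (AU k 1) - Pt t (AV k 0) (AU k 1) * Pt t (AV k 1) (AU k 0) * Pt t (AV k 2) (AU k 2) + Pt t (AV k 0) (AU k 1) * Pt t (AV k 1) (AU k 2) * Pt t (AV k 2) (AU k 0) + Pt t (AV k 0) (AU k 2) * Pt t (AV k 1) (AU k 0) * Pt t (AV k 2) (AU k 1) - Pt t (AV k 0) (AU k 2) * Pt t (AV k 1) (AU k 1) * Pt t (AV k 2) (AU k 0) = _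
  have h0 := (t 0).ne_zero
  have h1 := (t 1).ne_zero
  have h2 := (t 2).ne_zero
  simp [Pt, Fin.sum_univ_succ, Fin.prod_univ_succ, mk, AU, AV, AL3, ev_cons, ev_nil, chi]
  try field_simp
  try ring

/-! ### frame B -/

def BU (k : Type*) [Field k] : Fin 3 → Vc 3 k := ![mk ![-1, 0, 0] ![1, -1, -1], mk ![0, -1, 1] ![0, 0, 0], mk ![0, 1, -1] ![0, -1, -1]]
def BU' (k : Type*) [Field k] : Fin 3 → Vc 3 k := ![mk ![-1, 0, 0] ![0, 0, 0], mk ![1, 0, 1] ![0, -1, 0], mk ![1, 0, 1] ![0, 0, 0]]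
def BV (k : Type*) [Field k] : Fin 3 → Vc 3 k := ![mk ![1, -1, 0] ![-1, 0, 1], mk ![0, -1, -1] ![0, 1, 0], mk ![-1, 1, 0] ![0, -1, 0]]
def BV' (k : Type*) [Field k] : Fin 3 → Vc 3 k := ![mk ![0, 0, -1] ![0, 0, 0], mk ![0, 0, 0] ![-1, -1, 0], mk ![0, 0, -1] ![-1, 0, 0]]
def BL1 : List ((Fin 3 → ℤ) × ℤ) := [(![-1, 0, 0], 1), (![1, 0, 0], -1), (![0, -1, 0], 1)]
def BL2 : List ((Fin 3 → ℤ) × ℤ) := [(![-1, 1, 0], 1), (![1, 1, 0], -1), (![0, 0, 0], 2), (![0, -1, 1], 1)]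
def BL3 : List ((Fin 3 → ℤ) × ℤ) := [(![-1, 1, -1], 1), (![1, 1, -1], -1), (![-1, -1, 1], 1), (![-1, 0, 0], 2)]

theorem BBsU : Bs (BU k) (BU' k) := by
  constructor <;> intro i j <;> fin_cases i <;> fin_cases j <;>
    simp [om, Fin.sum_univ_succ, mk, BU, BU']

theorem BBsV : Bs (BV k) (BV' k) := by
  constructor <;> intro i j <;> fin_cases i <;> fin_cases j <;>
    simp [om, Fin.sum_univ_succ, mk, BV, BV']

theorem Bm1 (t : Fin 3 → kˣ) : mS t (BV k) (BU k) 0 = ev k BL1 t := by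
  unfold mS
  refine (Matrix.det_fin_one _).trans ?_
  change Pt t (BV k 0) (BU k 0) = _
  have h0 := (t 0).ne_zero
  have h1 := (t 1).ne_zero
  have h2 := (t 2).ne_zero
  simp [Pt, Fin.sum_univ_succ, Fin.prod_univ_succ, mk, BU, BV, BL1, ev_cons, ev_nil, chi]
  try field_simp
  try ring

theorem Bm2 (t : Fin 3 → kˣ) : mS t (BV k) (BU k) 1 = ev k BL2 t := by
  unfold mS
  refine (Matrix.det_fin_two _).trans ?_
  change Pt t (BV k 0) (BU k 0) * Pt t (BV k 1) (BU k 1) - Pt t (BV k 0) (BU k 1) * Pt t (BV k 1) (BU k 0) = _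
  have h0 := (t 0).ne_zero
  have h1 := (t 1).ne_zero
  have h2 := (t 2).ne_zero
  simp [Pt, Fin.sum_univ_succ, Fin.prod_univ_succ, mk, BU, BV, BL2, ev_cons, ev_nil, chi]
  try field_simp
  try ring

theorem Bm3 (t : Fin 3 → kˣ) : mS t (BV k) (BU k) 2 = ev k BL3 t := by
  unfold mS
  refine (Matrix.det_fin_three _).trans ?_
  change Pt t (BV k 0) (BU k 0) * Pt t (BV k 1) (BU k 1) * Pt t (BV k 2) (BU k 2) - Pt t (BV k 0) (BU k 0) * Pt t (BV k 1) (BU k 2) * Pt t (BV k 2) (BU k 1) - Pt t (BV k 0) (BU k 1) * Pt t (BV k 1) (BU k 0) * Pt t (BV k 2) (BU k 2) + Pt t (BV k 0) (BU k 1) * Pt t (BV k 1) (BU k 2) * Pt t (BV k 2) (BU k 0) + Pt t (BV k 0) (BU k 2) * Pt t (BV k 1) (BU k 0) * Pt t (BV k 2) (BU k 1) - Pt t (BV k 0) (BU k 2) * Pt t (BV k 1) (BU k 1) * Pt t (BV k 2) (BU k 0) = _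
  have h0 := (t 0).ne_zero
  have h1 := (t 1).ne_zero
  have h2 := (t 2).ne_zero
  simp [Pt, Fin.sum_univ_succ, Fin.prod_univ_succ, mk, BU, BV, BL3, ev_cons, ev_nil, chi]
  try field_simp
  try ring

/-! ### frame C -/

def CU (k : Type*) [Field k] : Fin 2 → Vc 2 k := ![mk ![1, -1] ![1, 0], mk ![1, 0] ![0, -1]]
def CU' (k : Type*) [Field k] : Fin 2 → Vc 2 k := ![mk ![-1, 0] ![0, 0], mk ![0, 1] ![0, 0]]
def CV (k : Type*) [Field k] : Fin 2 → Vc 2 k := ![mk ![1, -1] ![-1, 1], mk ![0, 0] ![1, 1]]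
def CV' (k : Type*) [Field k] : Fin 2 → Vc 2 k := ![mk ![0, 0] ![0, -1], mk ![-1, 0] ![0, -1]]
def CL1 : List ((Fin 2 → ℤ) × ℤ) := [(![-1, 0], 1), (![1, 0], 1), (![0, 1], 1)]
def CL2 : List ((Fin 2 → ℤ) × ℤ) := [(![0, 0], -2), (![1, 1], -2), (![1, -1], 1)]

theorem CBsU : Bs (CU k) (CU' k) := by
  constructor <;> intro i j <;> fin_cases i <;> fin_cases j <;>
    simp [om, Fin.sum_univ_succ, mk, CU, CU']

theorem CBsV : Bs (CV k) (CV' k) := by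
  constructor <;> intro i j <;> fin_cases i <;> fin_cases j <;>
    simp [om, Fin.sum_univ_succ, mk, CV, CV']

theorem Cm1 (t : Fin 2 → kˣ) : mS t (CV k) (CU k) 0 = ev k CL1 t := by
  unfold mS
  refine (Matrix.det_fin_one _).trans ?_
  change Pt t (CV k 0) (CU k 0) = _
  have h0 := (t 0).ne_zero
  have h1 := (t 1).ne_zero
  simp [Pt, Fin.sum_univ_succ, Fin.prod_univ_succ, mk, CU, CV, CL1, ev_cons, ev_nil, chi]
  try field_simp
  try ring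

theorem Cm2 (t : Fin 2 → kˣ) : mS t (CV k) (CU k) 1 = ev k CL2 t := by
  unfold mS
  refine (Matrix.det_fin_two _).trans ?_
  change Pt t (CV k 0) (CU k 0) * Pt t (CV k 1) (CU k 1) - Pt t (CV k 0) (CU k 1) * Pt t (CV k 1) (CU k 0) = _
  have h0 := (t 0).ne_zero
  have h1 := (t 1).ne_zero
  simp [Pt, Fin.sum_univ_succ, Fin.prod_univ_succ, mk, CU, CV, CL2, ev_cons, ev_nil, chi]
  try field_simp
  try ring

/-! ### frame D -/

def DU (k : Type*) [Field k] : Fin 2 → Vc 2 k := ![mk ![1, -1] ![-1, 0], mk ![0, 0] ![-1, -1]]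
def DU' (k : Type*) [Field k] : Fin 2 → Vc 2 k := ![mk ![0, 0] ![0, -1], mk ![1, 0] ![-1, 0]]
def DV (k : Type*) [Field k] : Fin 2 → Vc 2 k := ![mk ![-1, -1] ![-1, 1], mk ![1, 0] ![0, 1]]
def DV' (k : Type*) [Field k] : Fin 2 → Vc 2 k := ![mk ![0, 0] ![0, -1], mk ![0, 0] ![1, -1]]
def DL1 : List ((Fin 2 → ℤ) × ℤ) := [(![-1, 0], 1), (![1, 0], 1), (![0, 1], 1)]
def DL2 : List ((Fin 2 → ℤ) × ℤ) := [(![0, 0], -2), (![-1, 1], -2), (![-1, -1], 1)]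

theorem DBsU : Bs (DU k) (DU' k) := by
  constructor <;> intro i j <;> fin_cases i <;> fin_cases j <;>
    simp [om, Fin.sum_univ_succ, mk, DU, DU']

theorem DBsV : Bs (DV k) (DV' k) := by
  constructor <;> intro i j <;> fin_cases i <;> fin_cases j <;>
    simp [om, Fin.sum_univ_succ, mk, DV, DV']

theorem Dm1 (t : Fin 2 → kˣ) : mS t (DV k) (DU k) 0 = ev k DL1 t := by
  unfold mS
  refine (Matrix.det_fin_one _).trans ?_
  change Pt t (DV k 0) (DU k 0) = _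
  have h0 := (t 0).ne_zero
  have h1 := (t 1).ne_zero
  simp [Pt, Fin.sum_univ_succ, Fin.prod_univ_succ, mk, DU, DV, DL1, ev_cons, ev_nil, chi]
  try field_simp
  try ring

theorem Dm2 (t : Fin 2 → kˣ) : mS t (DV k) (DU k) 1 = ev k DL2 t := by
  unfold mS
  refine (Matrix.det_fin_two _).trans ?_
  change Pt t (DV k 0) (DU k 0) * Pt t (DV k 1) (DU k 1) - Pt t (DV k 0) (DU k 1) * Pt t (DV k 1) (DU k 0) = _
  have h0 := (t 0).ne_zero
  have h1 := (t 1).ne_zero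
  simp [Pt, Fin.sum_univ_succ, Fin.prod_univ_succ, mk, DU, DV, DL2, ev_cons, ev_nil, chi]
  try field_simp
  try ring

/-! ### frame E -/

def EU (k : Type*) [Field k] : Fin 1 → Vc 1 k := ![mk ![1] ![1]]
def EU' (k : Type*) [Field k] : Fin 1 → Vc 1 k := ![mk ![-1] ![0]]
def EV (k : Type*) [Field k] : Fin 1 → Vc 1 k := ![mk ![0] ![-1]]
def EV' (k : Type*) [Field k] : Fin 1 → Vc 1 k := ![mk ![1] ![0]]
def EL1 : List ((Fin 1 → ℤ) × ℤ) := [(![1], 1)]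

theorem EBsU : Bs (EU k) (EU' k) := by
  constructor <;> intro i j <;> fin_cases i <;> fin_cases j <;>
    simp [om, Fin.sum_univ_succ, mk, EU, EU']

theorem EBsV : Bs (EV k) (EV' k) := by
  constructor <;> intro i j <;> fin_cases i <;> fin_cases j <;>
    simp [om, Fin.sum_univ_succ, mk, EV, EV']

theorem Em1 (t : Fin 1 → kˣ) : mS t (EV k) (EU k) 0 = ev k EL1 t := by
  unfold mS
  refine (Matrix.det_fin_one _).trans ?_
  change Pt t (EV k 0) (EU k 0) = _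
  have h0 := (t 0).ne_zero
  simp [Pt, Fin.sum_univ_succ, Fin.prod_univ_succ, mk, EU, EV, EL1, ev_cons, ev_nil, chi]
  try field_simp
  try ring

/-! ### frame F -/

def FU (k : Type*) [Field k] : Fin 1 → Vc 1 k := ![mk ![1] ![1]]
def FU' (k : Type*) [Field k] : Fin 1 → Vc 1 k := ![mk ![-1] ![0]]
def FV (k : Type*) [Field k] : Fin 1 → Vc 1 k := ![mk ![1] ![0]]
def FV' (k : Type*) [Field k] : Fin 1 → Vc 1 k := ![mk ![0] ![1]]
def FL1 : List ((Fin 1 → ℤ) × ℤ) := [(![-1], 1)]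

theorem FBsU : Bs (FU k) (FU' k) := by
  constructor <;> intro i j <;> fin_cases i <;> fin_cases j <;>
    simp [om, Fin.sum_univ_succ, mk, FU, FU']

theorem FBsV : Bs (FV k) (FV' k) := by
  constructor <;> intro i j <;> fin_cases i <;> fin_cases j <;>
    simp [om, Fin.sum_univ_succ, mk, FV, FV']

theorem Fm1 (t : Fin 1 → kˣ) : mS t (FV k) (FU k) 0 = ev k FL1 t := by
  unfold mS
  refine (Matrix.det_fin_one _).trans ?_
  change Pt t (FV k 0) (FU k 0) = _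
  have h0 := (t 0).ne_zero
  simp [Pt, Fin.sum_univ_succ, Fin.prod_univ_succ, mk, FU, FV, FL1, ev_cons, ev_nil, chi]
  try field_simp
  try ring

/-! ### frame G -/

def GU (k : Type*) [Field k] : Fin 1 → Vc 1 k := ![mk ![1] ![1]]
def GU' (k : Type*) [Field k] : Fin 1 → Vc 1 k := ![mk ![-1] ![0]]
def GV (k : Type*) [Field k] : Fin 1 → Vc 1 k := ![mk ![1] ![-1]]
def GV' (k : Type*) [Field k] : Fin 1 → Vc 1 k := ![mk ![0] ![1]]
def GL1 : List ((Fin 1 → ℤ) × ℤ) := [(![-1], 1), (![1], 1)]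

theorem GBsU : Bs (GU k) (GU' k) := by
  constructor <;> intro i j <;> fin_cases i <;> fin_cases j <;>
    simp [om, Fin.sum_univ_succ, mk, GU, GU']

theorem GBsV : Bs (GV k) (GV' k) := by
  constructor <;> intro i j <;> fin_cases i <;> fin_cases j <;>
    simp [om, Fin.sum_univ_succ, mk, GV, GV']

theorem Gm1 (t : Fin 1 → kˣ) : mS t (GV k) (GU k) 0 = ev k GL1 t := by
  unfold mS
  refine (Matrix.det_fin_one _).trans ?_
  change Pt t (GV k 0) (GU k 0) = _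
  have h0 := (t 0).ne_zero
  simp [Pt, Fin.sum_univ_succ, Fin.prod_univ_succ, mk, GU, GV, GL1, ev_cons, ev_nil, chi]
  try field_simp
  try ring

/-! ### the three cases -/

/-- the list of `(t 0) ^ s * ∏ ...` -/
def pr1 (L1 : List ((Fin 1 → ℤ) × ℤ)) (a : ℕ) (s : ℤ) : List ((Fin 1 → ℤ) × ℤ) :=
  mulL [(Fin.cons s (fun _ => 0), 1)] (powL L1 a)
def pr2 (L1 L2 : List ((Fin 2 → ℤ) × ℤ)) (a b : ℕ) (s : ℤ) : List ((Fin 2 → ℤ) × ℤ) :=
  mulL [(Fin.cons s (fun _ => 0), 1)] (mulL (powL L1 a) (powL L2 b))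
def pr3 (L1 L2 L3 : List ((Fin 3 → ℤ) × ℤ)) (a b c : ℕ) (s : ℤ) : List ((Fin 3 → ℤ) × ℤ) :=
  mulL [(Fin.cons s (fun _ => 0), 1)] (mulL (powL L1 a) (mulL (powL L2 b) (powL L3 c)))

theorem Zs_one_of {U U' V V' : Fin 1 → Vc 1 k} (hU : Bs U U') (hV : Bs V V') {L1 : List ((Fin 1 → ℤ) × ℤ)}
    (h1 : ∀ t, mS t V U 0 = ev k L1 t) (n : Fin 1 → ℕ) (s : ℤ)
    (h : ((zc (pr1 L1 (n 0) s) : ℤ) : k) ≠ 0) : Zs k n s := by
  refine ⟨_, _, _, _, _, hU, hV, h, ?_⟩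
  have : (fun t : Fin 1 → kˣ => ((t 0 ^ s : kˣ) : k) * ∏ j, mS t V U j ^ n j) = ev k (pr1 L1 (n 0) s) := by
    unfold pr1
    rw [ev_mulL, ev_powL, ← pw]
    funext t
    rw [Fin.prod_univ_one, h1]
    rfl
  rw [this]
  exact ev_hasZ _

theorem Zs_two_of {U U' V V' : Fin 2 → Vc 2 k} (hU : Bs U U') (hV : Bs V V') {L1 L2 : List ((Fin 2 → ℤ) × ℤ)}
    (h1 : ∀ t, mS t V U 0 = ev k L1 t) (h2 : ∀ t, mS t V U 1 = ev k L2 t) (n : Fin 2 → ℕ) (s : ℤ)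
    (h : ((zc (pr2 L1 L2 (n 0) (n 1) s) : ℤ) : k) ≠ 0) : Zs k n s := by
  refine ⟨_, _, _, _, _, hU, hV, h, ?_⟩
  have : (fun t : Fin 2 → kˣ => ((t 0 ^ s : kˣ) : k) * ∏ j, mS t V U j ^ n j) =
      ev k (pr2 L1 L2 (n 0) (n 1) s) := by
    unfold pr2
    rw [ev_mulL, ev_mulL, ev_powL, ev_powL, ← pw]
    funext t
    rw [Fin.prod_univ_two, h1, h2]
    rfl
  rw [this]
  exact ev_hasZ _

theorem Zs_three_of {U U' V V' : Fin 3 → Vc 3 k} (hU : Bs U U') (hV : Bs V V')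
    {L1 L2 L3 : List ((Fin 3 → ℤ) × ℤ)}
    (h1 : ∀ t, mS t V U 0 = ev k L1 t) (h2 : ∀ t, mS t V U 1 = ev k L2 t) (h3 : ∀ t, mS t V U 2 = ev k L3 t)
    (n : Fin 3 → ℕ) (s : ℤ)
    (h : ((zc (pr3 L1 L2 L3 (n 0) (n 1) (n 2) s) : ℤ) : k) ≠ 0) : Zs k n s := by
  refine ⟨_, _, _, _, _, hU, hV, h, ?_⟩
  have : (fun t : Fin 3 → kˣ => ((t 0 ^ s : kˣ) : k) * ∏ j, mS t V U j ^ n j) =
      ev k (pr3 L1 L2 L3 (n 0) (n 1) (n 2) s) := by
    unfold pr3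
    rw [ev_mulL, ev_mulL, ev_mulL, ev_powL, ev_powL, ev_powL, ← pw]
    funext t
    rw [Fin.prod_univ_three, h1, h2, h3]
    simp only [Pi.mul_apply, Pi.pow_apply]
    ring
  rw [this]
  exact ev_hasZ _

theorem dec1 : ∀ (a : Fin 3) (s : Fin 3), s.1 ≤ a.1 →
    (¬ (3 : ℤ) ∣ zc (pr1 EL1 a (2 * s.1 - a.1)) ∨ ¬ (3 : ℤ) ∣ zc (pr1 FL1 a (2 * s.1 - a.1)) ∨
      ¬ (3 : ℤ) ∣ zc (pr1 GL1 a (2 * s.1 - a.1))) := by decide +kernel

theorem dec2 : ∀ (a b : Fin 3) (s : Fin 3), s.1 ≤ a.1 →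
    (¬ (3 : ℤ) ∣ zc (pr2 CL1 CL2 a b (2 * s.1 - a.1)) ∨ ¬ (3 : ℤ) ∣ zc (pr2 DL1 DL2 a b (2 * s.1 - a.1))) := by
  decide +kernel

theorem dec3 : ∀ (a b c : Fin 3) (s : Fin 5), s.1 ≤ a.1 + c.1 →
    (¬ (3 : ℤ) ∣ zc (pr3 AL1 AL2 AL3 a b c (2 * s.1 - (a.1 + c.1))) ∨
      ¬ (3 : ℤ) ∣ zc (pr3 BL1 BL2 BL3 a b c (2 * s.1 - (a.1 + c.1)))) := by
  decide +kernel

theorem Zs_one [CharP k 3] (n : Fin 1 → ℕ) (hn : ∀ j, n j ≤ 2) (s : ℤ) (hs : |s| ≤ AA n) (he : Even (s + AA n)) :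
    Zs k n s := by
  have hA : AA n = n 0 := by simp [AA]
  have h0 := hn 0
  rw [hA] at hs he
  rw [abs_le] at hs
  obtain ⟨q, hq⟩ := he
  obtain ⟨s', rfl⟩ : ∃ s' : ℕ, q = s' := ⟨q.toNat, by omega⟩
  have hs' : s = 2 * s' - n 0 := by omega
  subst hs'
  rcases dec1 ⟨n 0, by omega⟩ ⟨s', by omega⟩ (by change s' ≤ n 0; omega) with h | h | h
  · exact Zs_one_of EBsU EBsV Em1 n _ (cast_ne (p := 3) h)
  · exact Zs_one_of FBsU FBsV Fm1 n _ (cast_ne (p := 3) h)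
  · exact Zs_one_of GBsU GBsV Gm1 n _ (cast_ne (p := 3) h)

theorem Zs_two [CharP k 3] (n : Fin 2 → ℕ) (hn : ∀ j, n j ≤ 2) (s : ℤ) (hs : |s| ≤ AA n) (he : Even (s + AA n)) :
    Zs k n s := by
  have hA : AA n = n 0 := by simp [AA, Fin.sum_univ_succ]
  have h0 := hn 0
  have h1 := hn 1
  rw [hA] at hs he
  rw [abs_le] at hs
  obtain ⟨q, hq⟩ := he
  obtain ⟨s', rfl⟩ : ∃ s' : ℕ, q = s' := ⟨q.toNat, by omega⟩
  have hs' : s = 2 * s' - n 0 := by omega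
  subst hs'
  rcases dec2 ⟨n 0, by omega⟩ ⟨n 1, by omega⟩ ⟨s', by omega⟩ (by change s' ≤ n 0; omega) with h | h
  · exact Zs_two_of CBsU CBsV Cm1 Cm2 n _ (cast_ne (p := 3) h)
  · exact Zs_two_of DBsU DBsV Dm1 Dm2 n _ (cast_ne (p := 3) h)

theorem Zs_three [CharP k 3] (n : Fin 3 → ℕ) (hn : ∀ j, n j ≤ 2) (s : ℤ) (hs : |s| ≤ AA n)
    (he : Even (s + AA n)) : Zs k n s := by
  have hA : AA n = n 0 + n 2 := by simp [AA, Fin.sum_univ_succ]
  have h0 := hn 0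
  have h1 := hn 1
  have h2 := hn 2
  rw [hA] at hs he
  rw [abs_le] at hs
  obtain ⟨q, hq⟩ := he
  obtain ⟨s', rfl⟩ : ∃ s' : ℕ, q = s' := ⟨q.toNat, by omega⟩
  have hs' : s = 2 * s' - (n 0 + n 2) := by omega
  subst hs'
  rcases dec3 ⟨n 0, by omega⟩ ⟨n 1, by omega⟩ ⟨n 2, by omega⟩ ⟨s', by omega⟩
    (by change s' ≤ n 0 + n 2; omega) with h | h
  · exact Zs_three_of ABsU ABsV Am1 Am2 Am3 n _ (cast_ne (p := 3) h)
  · exact Zs_three_of BBsU BBsV Bm1 Bm2 Bm3 n _ (cast_ne (p := 3) h)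

/-- the claim for all `r` -/
theorem Zs_all [CharP k 3] : ∀ (r : ℕ) (n : Fin (r + 1) → ℕ), (∀ j, n j ≤ 2) → ∀ s : ℤ, |s| ≤ AA n →
    Even (s + AA n) → Zs k n s := by
  have h2 : (2 : k) ≠ 0 := by
    have : (((2 : ℤ)) : k) ≠ 0 := cast_ne (p := 3) (by decide)
    simpa using this
  intro r
  induction r using Nat.strong_induction_on with
  | _ r ih =>
    match r, ih with
    | 0, _ => exact fun n hn s hs he => Zs_one n hn s hs he
    | 1, _ => exact fun n hn s hs he => Zs_two n hn s hs he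
    | 2, _ => exact fun n hn s hs he => Zs_three n hn s hs he
    | r + 3, ih =>
      intro n hn s hs he
      exact Zs_step h2 n (hn 0) (fun s' h1 h3 => ih (r + 1) (by omega) (fun j => n j.succ.succ)
        (fun j => hn j.succ.succ) s' h1 h3) s hs he

end bases

end Cfsg.Agent.H168.Uni.Sp
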