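import Cfsg.Agent.H168.Uni.SpBase
import Cfsg.Agent.H45.UniS.Def

/-!
# Theorem (U) for symplectic groups, part (D): `SZero 3 m k`
-/

set_option autoImplicit false
set_option linter.unusedSimpArgs false
set_option linter.unusedSectionVars false

namespace Cfsg.Agent.H168.Uni.Sp

open Matrix Cfsg.Agent.H168.Uni Cfsg.Agent.H45.UniS

variable {m : ℕ} {k : Type*} [Field k]

theorem mul_J_inl (A : Matrix (Fin m ⊕ Fin m) (Fin m ⊕ Fin m) k) (j : Fin m ⊕ Fin m) (i : Fin m) :
    (A * J (Fin m) k) j (.inl i) = A j (.inr i) := by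
  rw [Matrix.mul_apply, Fintype.sum_sum_type]
  simp [J, Matrix.one_apply]

theorem mul_J_inr (A : Matrix (Fin m ⊕ Fin m) (Fin m ⊕ Fin m) k) (j : Fin m ⊕ Fin m) (i : Fin m) :
    (A * J (Fin m) k) j (.inr i) = - A j (.inl i) := by
  rw [Matrix.mul_apply, Fintype.sum_sum_type]
  simp [J, Matrix.one_apply]

theorem row_J (A : Matrix (Fin m ⊕ Fin m) (Fin m ⊕ Fin m) k) (j l : Fin m ⊕ Fin m) :
    (A * J (Fin m) k * Aᵀ) j l = - om (A j) (A l) := by
  rw [Matrix.mul_apply, Fintype.sum_sum_type, om, ← Finset.sum_add_distrib, ← Finset.sum_neg_distrib]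
  apply Finset.sum_congr rfl
  intro i _
  rw [mul_J_inl, mul_J_inr, Matrix.transpose_apply, Matrix.transpose_apply]
  ring

/-- the matrix with given rows -/
theorem rowMat_mem {w w' : Fin m → Vc m k} (h : Bs w w') :
    (Matrix.of (Sum.elim w w') : Matrix (Fin m ⊕ Fin m) (Fin m ⊕ Fin m) k) ∈ symplecticGroup (Fin m) k := by
  rw [SymplecticGroup.mem_iff]
  ext j l
  rw [row_J]
  rcases j with j | j <;> rcases l with l | l
  · change - om (w j) (w l) = _
    rw [h.uu, neg_zero]; simp [J]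
  · change - om (w j) (w' l) = _
    rw [h.puu]; simp [J, Matrix.one_apply]
  · change - om (w' j) (w l) = _
    rw [om_swap, h.puu, neg_neg]
    by_cases hjl : j = l
    · rw [if_pos hjl.symm]; simp [J, hjl]
    · rw [if_neg (Ne.symm hjl)]; simp [J, hjl]
  · change - om (w' j) (w' l) = _
    rw [h.uu', neg_zero]; simp [J]

/-- the complex structure -/
def sw (x : Vc m k) : Vc m k := Sum.elim (fun i => - x (.inr i)) (fun i => x (.inl i))

theorem om_sw (x y : Vc m k) : om (sw x) (sw y) = om x y := by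
  unfold om
  apply Finset.sum_congr rfl
  intro i _
  simp only [sw, Sum.elim_inl, Sum.elim_inr]
  ring

theorem Bs.sw {w w' : Fin m → Vc m k} (h : Bs w w') : Bs (fun i => sw (w i)) (fun i => sw (w' i)) where
  uu i j := by rw [om_sw]; exact h.uu i j
  uu' i j := by rw [om_sw]; exact h.uu' i j
  puu i j := by rw [om_sw]; exact h.puu i j

theorem entry (t : Fin m → kˣ) (v v' u u' : Fin m → Vc m k) (a b : Fin m) :
    ((Matrix.of (Sum.elim (fun i => sw (v i)) fun i => sw (v' i)) : Matrix (Fin m ⊕ Fin m) (Fin m ⊕ Fin m) k) *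
      Matrix.diagonal (tsVec t) * (Matrix.of (Sum.elim u u'))ᵀ) (.inl a) (.inl b) = Pt t (v a) (u b) := by
  rw [Matrix.mul_apply, Fintype.sum_sum_type, ← Finset.sum_add_distrib, Pt]
  apply Finset.sum_congr rfl
  intro i _
  rw [Matrix.mul_diagonal, Matrix.mul_diagonal, Matrix.transpose_apply, Matrix.transpose_apply]
  simp only [Matrix.of_apply, Sum.elim_inl, Sum.elim_inr, tsVec, Cfsg.Agent.H168.Uni.Sp.sw]
  ring

theorem sZero_of_HasZ (n : Fin m → ℕ) {u u' v v' : Fin m → Vc m k} {c : k} (hu : Bs u u') (hv : Bs v v')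
    (hc : c ≠ 0) (hZ : HasZ (fun t => ∏ j, mS t v u j ^ n j) c) :
    ∃ (g h : SG m k) (S : Finset (Fin m → ℤ)) (C : (Fin m → ℤ) → k),
      0 ∈ S ∧ C 0 ≠ 0 ∧ ∀ t : Fin m → kˣ,
        cs n (g * ts t * h).1 = ∑ μ ∈ S, C μ * ((∏ i, t i ^ μ i : kˣ) : k) := by
  obtain ⟨S, C, h0, hC, hS⟩ := hZ.exists_sum
  refine ⟨⟨_, rowMat_mem hv.sw⟩, ⟨_, SymplecticGroup.transpose_mem (rowMat_mem hu)⟩, S, C, h0, hC ▸ hc, ?_⟩
  intro t
  rw [← hS t]
  unfold cs Cfsg.Agent.H45.UniS.mn mS
  apply Finset.prod_congr rfl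
  intro j _
  congr 2
  ext a b
  exact entry t v v' u u' _ _

theorem even_AA (n : Fin m → ℕ) (h : Even (∑ j : Fin m, (j.1 + 1) * n j)) : Even (AA n) := by
  have h1 : Even (∑ j : Fin m, (j.1 + 1) * n j + AA n) := by
    unfold AA
    rw [← Finset.sum_add_distrib]
    apply Finset.even_sum
    intro j _
    split_ifs with hj
    · have : (j.1 + 1) * n j + n j = (j.1 + 2) * n j := by ring
      rw [this]
      exact (hj.add (by decide)).mul_right _
    · rw [add_zero]
      rw [Nat.not_even_iff_odd] at hj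
      exact (hj.add_odd (by decide)).mul_right _
  exact (Nat.even_add.1 h1).1 h

/-- (D), for `p = 3` -/
theorem sZero_three [CharP k 3] : SZero 3 m k := by
  intro n hn he
  rcases m with _ | r
  · refine ⟨1, 1, {0}, fun _ => 1, Finset.mem_singleton_self _, one_ne_zero, ?_⟩
    intro t
    simp [cs]
  · obtain ⟨u, u', v, v', c, hu, hv, hc, hZ⟩ := Zs_all (k := k) r n (fun j => Nat.le_of_lt_succ (hn j)) 0
      (by simp) (by
        rw [zero_add]
        exact_mod_cast even_AA n he)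
    apply sZero_of_HasZ n hu hv hc
    convert hZ using 1
    funext t
    simp

end Cfsg.Agent.H168.Uni.Sp
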